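import Mathlib.RingTheory.Extension.Cotangent.Basic
import Mathlib.RingTheory.Smooth.Kaehler
import Mathlib.RingTheory.Kaehler.Polynomial

/-!
# Cotangent modules of two extensions differ by the cotangent spaces
-/

set_option autoImplicit false

universe u v w w'

noncomputable section

open TensorProduct

namespace Groth.Agent.CotPres

/-- homotopy equivalent two-term complexes are stably isomorphic -/
theorem nonempty_equiv_of_homotopy {S : Type*} [CommRing S] {A₁ A₀ B₁ B₀ : Type*} [AddCommGroup A₁] [Module S A₁]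
    [AddCommGroup A₀] [Module S A₀] [AddCommGroup B₁] [Module S B₁] [AddCommGroup B₀] [Module S B₀]
    (d : A₁ →ₗ[S] A₀) (d' : B₁ →ₗ[S] B₀) (c : A₁ →ₗ[S] B₁) (a : A₀ →ₗ[S] B₀) (e : B₁ →ₗ[S] A₁) (b : B₀ →ₗ[S] A₀)
    (h : A₀ →ₗ[S] A₁) (h' : B₀ →ₗ[S] B₁)
    (hca : ∀ x, d' (c x) = a (d x)) (heb : ∀ x, d (e x) = b (d' x))
    (hec : ∀ x, e (c x) - x = h (d x)) (hba : ∀ x, b (a x) - x = d (h x))
    (hce : ∀ x, c (e x) - x = h' (d' x)) (hab : ∀ x, a (b x) - x = d' (h' x)) :
    Nonempty ((B₁ × A₀) ≃ₗ[S] (A₁ × B₀)) := by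
  let δ : A₀ →ₗ[S] A₁ := e ∘ₗ (c ∘ₗ h - h' ∘ₗ a)
  let M : B₁ × A₀ →ₗ[S] A₁ × B₀ :=
    (LinearMap.coprod e (δ - h)).prod (LinearMap.coprod d' (-a))
  have hw : ∀ x, d' (c (h x) - h' (a x)) = 0 := fun x => by
    have e1 := hba x
    have e2 := hab (a x)
    rw [map_sub, hca, ← e2, ← e1, map_sub]; abel
  have hδd : ∀ x, δ (d x) = 0 := fun x => by
    have e1 := hec x
    have e2 := hce (c x)
    rw [hca] at e2
    change e (c (h (d x)) - h' (a (d x))) = 0
    rw [← e1, ← e2, map_sub c, sub_self, map_zero]
  refine ⟨LinearEquiv.ofBijective M ⟨LinearMap.ker_eq_bot.1 (LinearMap.ker_eq_bot'.2 ?_), ?_⟩⟩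
  · rintro ⟨b1, a0⟩ hx
    obtain ⟨h1, h2⟩ := Prod.mk_eq_zero.1 hx
    simp only [LinearMap.coprod_apply, LinearMap.sub_apply, δ, LinearMap.comp_apply, LinearMap.neg_apply] at h1 h2
    have hda : d' b1 = a a0 := by rwa [← sub_eq_zero, sub_eq_add_neg]
    set w := c (h a0) - h' (a a0) with hwdef
    have hcew : c (e w) = w := by
      have := hce w
      rwa [hw, map_zero, sub_eq_zero] at this
    have hb1 : b1 = 0 := by
      have e1 := congrArg c h1
      rw [map_add, map_sub, map_zero, hcew, hwdef] at e1
      have e2 := hce b1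
      rw [hda] at e2
      have e3 : c (e b1) - h' (a a0) = b1 := by rw [← e2]; abel
      rw [← e3]
      refine Eq.trans ?_ e1
      abel
    subst hb1
    rw [map_zero, zero_add] at h1
    have hdh : d (h a0) = 0 := by
      have e1 := congrArg d h1
      rw [map_sub, map_zero, heb, hw, map_zero, zero_sub, neg_eq_zero] at e1
      exact e1
    have := hba a0
    rw [hdh, ← hda, map_zero, map_zero, zero_sub, neg_eq_zero] at this
    exact Prod.ext rfl this
  · rintro ⟨a1, b0⟩
    let s : B₁ × A₀ := (-h' b0, -b b0)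
    refine ⟨s + (c (a1 - (M s).1), d (a1 - (M s).1)), ?_⟩
    have hMi : ∀ x, M (c x, d x) = (x, 0) := fun x => by
      refine Prod.ext ?_ ?_
      · change e (c x) + (δ (d x) - h (d x)) = x
        rw [hδd, ← hec x]; abel
      · change d' (c x) + -a (d x) = 0
        rw [hca]; abel
    rw [map_add, hMi]
    refine Prod.ext ?_ ?_
    · change (M s).1 + (a1 - (M s).1) = a1
      abel
    · change d' (-h' b0) + -a (-b b0) + 0 = b0
      rw [map_neg, map_neg, ← hab b0]; abel

variable {R : Type u} [CommRing R] {S : Type v} [CommRing S] [Algebra R S]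

/-- two extensions of the same algebra with maps both ways -/
theorem nonempty_cotangent_prod (P : Algebra.Extension.{w} R S) (Q : Algebra.Extension.{w'} R S)
    (f : P.Hom Q) (g : Q.Hom P) :
    Nonempty ((P.Cotangent × Q.CotangentSpace) ≃ₗ[S] (Q.Cotangent × P.CotangentSpace)) := by
  obtain ⟨e⟩ := nonempty_equiv_of_homotopy P.cotangentComplex Q.cotangentComplex
    (Algebra.Extension.Cotangent.map f) (Algebra.Extension.CotangentSpace.map f)
    (Algebra.Extension.Cotangent.map g) (Algebra.Extension.CotangentSpace.map g)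
    ((g.comp f).sub (.id P)) ((f.comp g).sub (.id Q))
    (fun x => (Algebra.Extension.CotangentSpace.map_cotangentComplex f x).symm)
    (fun x => (Algebra.Extension.CotangentSpace.map_cotangentComplex g x).symm)
    (fun x => by
      have := LinearMap.congr_fun (Algebra.Extension.Cotangent.map_sub_map (g.comp f) (.id P)) x
      simpa [Algebra.Extension.Cotangent.map_comp, Algebra.Extension.Cotangent.map_id] using this)
    (fun x => by
      have := LinearMap.congr_fun (Algebra.Extension.CotangentSpace.map_sub_map (g.comp f) (.id P)) x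
      simpa [Algebra.Extension.CotangentSpace.map_comp, Algebra.Extension.CotangentSpace.map_id] using this)
    (fun x => by
      have := LinearMap.congr_fun (Algebra.Extension.Cotangent.map_sub_map (f.comp g) (.id Q)) x
      simpa [Algebra.Extension.Cotangent.map_comp, Algebra.Extension.Cotangent.map_id] using this)
    (fun x => by
      have := LinearMap.congr_fun (Algebra.Extension.CotangentSpace.map_sub_map (f.comp g) (.id Q)) x
      simpa [Algebra.Extension.CotangentSpace.map_comp, Algebra.Extension.CotangentSpace.map_id] using this)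
  exact ⟨e.symm⟩

/-- a map to an infinitesimal extension factors through the infinitesimal extension -/
def infLift {P : Algebra.Extension.{w} R S} {Q : Algebra.Extension.{w'} R S} (f : P.Hom Q.infinitesimal) :
    P.infinitesimal.Hom Q.infinitesimal where
  toRingHom := Ideal.Quotient.lift (P.ker ^ 2) f.toRingHom fun x hx => by
    have hle : P.ker ≤ Q.infinitesimal.ker.comap f.toRingHom := fun y hy => by
      rw [Ideal.mem_comap, Algebra.Extension.ker, RingHom.mem_ker]
      exact (f.algebraMap_toRingHom y).trans (by rw [show algebraMap P.Ring S y = 0 from hy, map_zero])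
    have h2 : f.toRingHom x ∈ Q.infinitesimal.ker ^ 2 :=
      Ideal.le_comap_pow _ 2 (Ideal.pow_right_mono hle 2 hx)
    rw [Algebra.Extension.ker_infinitesimal] at h2
    have h3 : f.toRingHom x ∈ (⊥ : Ideal (Q.Ring ⧸ Q.ker ^ 2)) := Q.ker.cotangentIdeal_square ▸ h2
    exact h3
  toRingHom_algebraMap r := f.toRingHom_algebraMap r
  algebraMap_toRingHom x := by
    obtain ⟨x, rfl⟩ := Ideal.Quotient.mk_surjective x
    exact f.algebraMap_toRingHom x

/-- the same up to square-zero thickenings -/
theorem nonempty_cotangent_prod_inf (P : Algebra.Extension.{w} R S) (Q : Algebra.Extension.{w} R S)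
    (f : P.Hom Q.infinitesimal) (g : Q.Hom P.infinitesimal) :
    Nonempty ((P.Cotangent × Q.CotangentSpace) ≃ₗ[S] (Q.Cotangent × P.CotangentSpace)) := by
  obtain ⟨e⟩ := nonempty_cotangent_prod P.infinitesimal Q.infinitesimal (infLift f) (infLift g)
  let c (E : Algebra.Extension.{w} R S) := LinearEquiv.ofBijective (Algebra.Extension.Cotangent.map E.toInfinitesimal)
    (Algebra.Extension.Cotangent.map_toInfinitesimal_bijective E)
  let s (E : Algebra.Extension.{w} R S) := LinearEquiv.ofBijective (Algebra.Extension.CotangentSpace.map E.toInfinitesimal)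
    (Algebra.Extension.CotangentSpace.map_toInfinitesimal_bijective E)
  exact ⟨(c P).prodCongr (s Q) ≪≫ₗ e ≪≫ₗ ((c Q).prodCongr (s P)).symm⟩

/-- a map out of a polynomial extension -/
def homOfPoly {σ : Type*} (α : MvPolynomial σ R →ₐ[R] S) (hα : Function.Surjective α)
    (Q : Algebra.Extension.{w'} R S) : (Algebra.Extension.ofSurjective α hα).Hom Q where
  toRingHom := (MvPolynomial.aeval fun i => Q.σ (α (MvPolynomial.X i)) : MvPolynomial σ R →ₐ[R] Q.Ring).toRingHom
  toRingHom_algebraMap r := (MvPolynomial.aeval fun i => Q.σ (α (MvPolynomial.X i))).commutes r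
  algebraMap_toRingHom x := by
    change algebraMap Q.Ring S (MvPolynomial.aeval (fun i => Q.σ (α (MvPolynomial.X i))) x) = α x
    exact AlgHom.congr_fun (show (IsScalarTower.toAlgHom R Q.Ring S).comp
      (MvPolynomial.aeval fun i => Q.σ (α (MvPolynomial.X i))) = α from
        MvPolynomial.algHom_ext fun i => by simp) x

/-- the cotangent space of a polynomial extension is free -/
def polySpace {σ : Type*} [Finite σ] (α : MvPolynomial σ R →ₐ[R] S) (hα : Function.Surjective α) :
    (Algebra.Extension.ofSurjective α hα).CotangentSpace ≃ₗ[S] (σ → S) :=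
  letI : Algebra (MvPolynomial σ R) S := α.toAlgebra
  ((KaehlerDifferential.mvPolynomialBasis R σ).baseChange S).equivFun

end Groth.Agent.CotPres
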