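import Groth.Agent.CotPres.Basic
import Mathlib.RingTheory.Etale.Kaehler
import Mathlib.RingTheory.Localization.Module

/-!
# The cotangent module of a localized extension
-/

set_option autoImplicit false

universe u v v' w w'

noncomputable section

open TensorProduct

namespace Groth.Agent.CotPres

variable {R : Type u} [CommRing R] {S : Type v} [CommRing S] [Algebra R S] (M : Submonoid S)
  {S' : Type v'} [CommRing S'] [Algebra S S'] [IsLocalization M S'] [Algebra R S'] [IsScalarTower R S S']
  (P : Algebra.Extension.{w} R S)

omit [Algebra R S'] [IsScalarTower R S S'] in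
theorem isUnit_loc (x : M.comap (algebraMap P.Ring S)) :
    IsUnit ((algebraMap S S').comp (algebraMap P.Ring S) x) :=
  IsLocalization.map_units (M := M) S' ⟨_, x.2⟩

/-- the localized extension, with reducible underlying ring -/
def locExt : Algebra.Extension R S' where
  Ring := Localization (M.comap (algebraMap P.Ring S))
  algebra₂ := (IsLocalization.lift (isUnit_loc (S' := S') M P)).toAlgebra
  isScalarTower := by
    let : Algebra (Localization (M.comap (algebraMap P.Ring S))) S' :=
      (IsLocalization.lift (isUnit_loc (S' := S') M P)).toAlgebra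
    apply IsScalarTower.of_algebraMap_eq'
    rw [RingHom.algebraMap_toAlgebra, IsScalarTower.algebraMap_eq R P.Ring (Localization _),
      ← RingHom.comp_assoc, IsLocalization.lift_comp, RingHom.comp_assoc,
      ← IsScalarTower.algebraMap_eq, ← IsScalarTower.algebraMap_eq]
  σ s := Localization.mk (P.σ (IsLocalization.sec M s).1) ⟨P.σ (IsLocalization.sec M s).2, by simp⟩
  algebraMap_σ s := by
    simp [RingHom.algebraMap_toAlgebra, Localization.mk_eq_mk', IsLocalization.lift_mk',
      Units.mul_inv_eq_iff_eq_mul, IsUnit.coe_liftRight, IsLocalization.sec_spec]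

instance locAlgebra : Algebra P.Ring (locExt (S' := S') M P).Ring :=
  inferInstanceAs (Algebra P.Ring (Localization (M.comap (algebraMap P.Ring S))))

instance : IsScalarTower R P.Ring (locExt (S' := S') M P).Ring :=
  inferInstanceAs (IsScalarTower R P.Ring (Localization (M.comap (algebraMap P.Ring S))))

instance : IsLocalization (M.comap (algebraMap P.Ring S)) (locExt (S' := S') M P).Ring :=
  inferInstanceAs (IsLocalization (M.comap (algebraMap P.Ring S)) (Localization (M.comap (algebraMap P.Ring S))))

theorem algebraMap_locExt (x : P.Ring) :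
    algebraMap (locExt (S' := S') M P).Ring S' (algebraMap P.Ring _ x) = algebraMap S S' (algebraMap P.Ring S x) :=
  IsLocalization.lift_eq (S := Localization (M.comap (algebraMap P.Ring S))) (isUnit_loc (S' := S') M P) x

/-- the map of an extension to its localization -/
def locHom : P.Hom (locExt (S' := S') M P) where
  toRingHom := algebraMap P.Ring (locExt (S' := S') M P).Ring
  toRingHom_algebraMap r := by
    rw [Algebra.algebraMap_self, RingHom.id_apply]
    exact (IsScalarTower.algebraMap_apply R P.Ring _ r).symm
  algebraMap_toRingHom x := algebraMap_locExt M P x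

theorem ker_localization_eq :
    (locExt (S' := S') M P).ker =
      P.ker.map (algebraMap P.Ring (locExt (S' := S') M P).Ring) := by
  refine le_antisymm (fun z hz => ?_) ?_
  · obtain ⟨p, s, rfl⟩ := IsLocalization.exists_mk'_eq (M.comap (algebraMap P.Ring S))
      (show (locExt (S' := S') M P).Ring from z)
    have hz' : algebraMap S S' (algebraMap P.Ring S p) = 0 := by
      rw [← algebraMap_locExt (S' := S') M P, ← IsLocalization.mk'_spec (locExt (S' := S') M P).Ring p s,
        map_mul, show algebraMap (locExt (S' := S') M P).Ring S' (IsLocalization.mk' _ p s) = 0 from hz, zero_mul]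
    obtain ⟨m, hm⟩ := (IsLocalization.map_eq_zero_iff M S' _).1 hz'
    obtain ⟨t, ht⟩ := P.algebraMap_surjective (m : S)
    refine (IsLocalization.mk'_mem_map_algebraMap_iff (M.comap (algebraMap P.Ring S)) _ _ _ _).2
      ⟨t, ?_, ?_⟩
    · rw [Submonoid.mem_comap, ht]; exact m.2
    · rw [RingHom.mem_ker, map_mul, ht, hm]
  · rw [Ideal.map_le_iff_le_comap]
    intro x hx
    rw [Ideal.mem_comap, RingHom.mem_ker]
    refine (algebraMap_locExt M P x).trans ?_
    rw [show algebraMap P.Ring S x = 0 from hx, map_zero]

theorem isLocalizedModule_cotangent :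
    IsLocalizedModule M (Algebra.Extension.Cotangent.map (locHom (S' := S') M P)) := by
  refine ⟨fun m => ?_, fun y => ?_, fun {x y} h => ?_⟩
  · rw [Module.End.isUnit_iff]
    obtain ⟨u, hu⟩ := IsLocalization.map_units S' m
    refine ⟨fun a b h => ?_, fun a => ⟨(↑u⁻¹ : S') • a, ?_⟩⟩
    · simp only [Module.algebraMap_end_apply] at h
      rw [← algebraMap_smul S' (m : S) a, ← algebraMap_smul S' (m : S) b, ← hu] at h
      have := congrArg (fun z => (↑u⁻¹ : S') • z) h
      simpa [smul_smul] using this
    · simp only [Module.algebraMap_end_apply]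
      rw [← algebraMap_smul S' (m : S) _, ← hu, smul_smul, Units.mul_inv, one_smul]
  · obtain ⟨⟨z, hz⟩, rfl⟩ := Algebra.Extension.Cotangent.mk_surjective y
    obtain ⟨⟨p, s⟩, hzs⟩ := IsLocalization.surj (M.comap (algebraMap P.Ring S))
      (show (locExt (S' := S') M P).Ring from z)
    have hp : algebraMap P.Ring (locExt (S' := S') M P).Ring p ∈
        P.ker.map (algebraMap P.Ring (locExt (S' := S') M P).Ring) := by
      rw [← ker_localization_eq (S' := S') M P]
      exact hzs ▸ Ideal.mul_mem_right _ _ hz
    obtain ⟨t, ht, htp⟩ := (IsLocalization.algebraMap_mem_map_algebraMap_iff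
      (M.comap (algebraMap P.Ring S)) _ _ _).1 hp
    refine ⟨(Algebra.Extension.Cotangent.mk ⟨t * p, htp⟩, ⟨algebraMap P.Ring S (t * s), ?_⟩), ?_⟩
    · rw [map_mul]; exact M.mul_mem ht s.2
    · have e1 : algebraMap S S' (algebraMap P.Ring S (t * s)) =
          algebraMap (locExt (S' := S') M P).Ring S' ((locHom (S' := S') M P).toRingHom (t * s)) :=
        ((locHom (S' := S') M P).algebraMap_toRingHom _).symm
      rw [Submonoid.smul_def, ← algebraMap_smul S' (algebraMap P.Ring S (t * s)) (Algebra.Extension.Cotangent.mk _),
        e1, algebraMap_smul, ← map_smul, Algebra.Extension.Cotangent.map_mk]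
      congr 1
      refine Subtype.ext ?_
      change algebraMap P.Ring _ (t * s) * z = algebraMap P.Ring _ (t * p)
      rw [map_mul, map_mul, ← hzs]
      ring
  · obtain ⟨x, rfl⟩ := Algebra.Extension.Cotangent.mk_surjective x
    obtain ⟨y, rfl⟩ := Algebra.Extension.Cotangent.mk_surjective y
    rw [Algebra.Extension.Cotangent.map_mk, Algebra.Extension.Cotangent.map_mk,
      Algebra.Extension.Cotangent.mk_eq_mk_iff_sub_mem] at h
    change algebraMap P.Ring (locExt (S' := S') M P).Ring x -
      algebraMap P.Ring (locExt (S' := S') M P).Ring y ∈ _ at h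
    rw [ker_localization_eq (S' := S') M P, ← Ideal.map_pow, ← map_sub] at h
    obtain ⟨t, ht, htm⟩ := (IsLocalization.algebraMap_mem_map_algebraMap_iff
      (M.comap (algebraMap P.Ring S)) _ _ _).1 h
    refine ⟨⟨algebraMap P.Ring S t, ht⟩, ?_⟩
    rw [Submonoid.smul_def, Submonoid.smul_def, algebraMap_smul, algebraMap_smul, ← map_smul, ← map_smul,
      Algebra.Extension.Cotangent.mk_eq_mk_iff_sub_mem]
    change t * (x : P.Ring) - t * (y : P.Ring) ∈ _
    rwa [← mul_sub]

/-- localization commutes with the cotangent module -/
def locCotangentEquiv :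
    LocalizedModule M P.Cotangent ≃ₗ[Localization M] (locExt (S' := Localization M) M P).Cotangent :=
  haveI := isLocalizedModule_cotangent (S' := Localization M) M P
  (IsLocalizedModule.iso M (Algebra.Extension.Cotangent.map (locHom (S' := Localization M) M P))
    ).extendScalarsOfIsLocalization M (Localization M)

/-- the cotangent space of a localized polynomial extension is free -/
def locPolySpace {σ : Type} [Finite σ] (α : MvPolynomial σ R →ₐ[R] S) (hα : Function.Surjective α) :
    (locExt (S' := S') M (Algebra.Extension.ofSurjective α hα)).CotangentSpace ≃ₗ[S'] (σ → S') :=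
  let P := Algebra.Extension.ofSurjective α hα
  let L := locExt (S' := S') M P
  letI : Algebra (MvPolynomial σ R) L.Ring := locAlgebra M P
  haveI : IsScalarTower R (MvPolynomial σ R) L.Ring :=
    inferInstanceAs (IsScalarTower R P.Ring (locExt (S' := S') M P).Ring)
  haveI : IsLocalization (R := MvPolynomial σ R) (M.comap (algebraMap P.Ring S)) L.Ring :=
    inferInstanceAs (IsLocalization (M.comap (algebraMap P.Ring S)) (locExt (S' := S') M P).Ring)
  haveI : Algebra.FormallyEtale (MvPolynomial σ R) L.Ring :=
    Algebra.FormallyEtale.of_isLocalization (R := MvPolynomial σ R) (M.comap (algebraMap P.Ring S))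
  ((((KaehlerDifferential.mvPolynomialBasis R σ).baseChange L.Ring).map
      (KaehlerDifferential.tensorKaehlerEquivOfFormallyEtale R (MvPolynomial σ R) L.Ring)).baseChange S').equivFun

/-- a map from a localized polynomial extension to the infinitesimal thickening -/
def homLocInf {σ : Type*} (α : MvPolynomial σ R →ₐ[R] S) (hα : Function.Surjective α)
    (Q : Algebra.Extension.{w'} R S') :
    (locExt (S' := S') M (Algebra.Extension.ofSurjective α hα)).Hom Q.infinitesimal :=
  let φ : MvPolynomial σ R →ₐ[R] Q.infinitesimal.Ring :=
    MvPolynomial.aeval fun i => Q.infinitesimal.σ (algebraMap S S' (α (MvPolynomial.X i)))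
  have hφ : ∀ x, algebraMap Q.infinitesimal.Ring S' (φ x) = algebraMap S S' (α x) := fun x =>
    AlgHom.congr_fun (show (IsScalarTower.toAlgHom R Q.infinitesimal.Ring S').comp φ =
      (IsScalarTower.toAlgHom R S S').comp α from MvPolynomial.algHom_ext fun i => by simp [φ]) x
  have hu : ∀ y : M.comap (algebraMap (Algebra.Extension.ofSurjective α hα).Ring S), IsUnit (φ y.1) := fun y => by
    obtain ⟨v, hv⟩ := (IsLocalization.map_units (M := M) S' ⟨_, y.2⟩).exists_right_inv
    have h1 : φ y.1 * Q.infinitesimal.σ v - 1 ∈ Q.infinitesimal.ker := by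
      rw [RingHom.mem_ker, map_sub, map_mul, map_one, hφ, Algebra.Extension.algebraMap_σ, sub_eq_zero]
      exact hv
    have h2 : IsNilpotent (φ y.1 * Q.infinitesimal.σ v - 1) := by
      refine ⟨2, ?_⟩
      have h3 := Ideal.pow_mem_pow h1 2
      rw [Algebra.Extension.ker_infinitesimal] at h3
      have h4 : _ ∈ (⊥ : Ideal (Q.Ring ⧸ Q.ker ^ 2)) := Q.ker.cotangentIdeal_square ▸ h3
      exact h4
    have h5 := h2.isUnit_add_one
    rw [sub_add_cancel] at h5
    exact isUnit_of_mul_isUnit_left h5
  { toRingHom := IsLocalization.lift (M := M.comap (algebraMap (Algebra.Extension.ofSurjective α hα).Ring S))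
      (S := (locExt (S' := S') M (Algebra.Extension.ofSurjective α hα)).Ring)
      (g := φ.toRingHom) hu
    toRingHom_algebraMap := fun r => by
      change IsLocalization.lift (M := M.comap (algebraMap (Algebra.Extension.ofSurjective α hα).Ring S))
        (S := (locExt (S' := S') M (Algebra.Extension.ofSurjective α hα)).Ring)
        (g := φ.toRingHom) hu (algebraMap R _ r) = algebraMap R _ r
      rw [IsScalarTower.algebraMap_apply R (Algebra.Extension.ofSurjective α hα).Ring
        (locExt (S' := S') M (Algebra.Extension.ofSurjective α hα)).Ring, IsLocalization.lift_eq]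
      exact φ.commutes r
    algebraMap_toRingHom := fun x => by
      obtain ⟨p, s, rfl⟩ := IsLocalization.exists_mk'_eq (M.comap (algebraMap (Algebra.Extension.ofSurjective α hα).Ring S))
        (show (locExt (S' := S') M (Algebra.Extension.ofSurjective α hα)).Ring from x)
      rw [Algebra.algebraMap_self, RingHom.id_apply]
      refine (IsLocalization.map_units (M := M) S' ⟨_, s.2⟩).mul_left_cancel ?_
      have e1 : algebraMap S S' (α s.1) * algebraMap (locExt (S' := S') M (Algebra.Extension.ofSurjective α hα)).Ring S'
          (IsLocalization.mk' (locExt (S' := S') M (Algebra.Extension.ofSurjective α hα)).Ring p s) =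
          algebraMap S S' (α p) := by
        refine Eq.trans ?_ (algebraMap_locExt M (Algebra.Extension.ofSurjective α hα) p)
        rw [← IsLocalization.mk'_spec' (locExt (S' := S') M (Algebra.Extension.ofSurjective α hα)).Ring p s, map_mul,
          algebraMap_locExt]
        rfl
      refine Eq.trans ?_ e1.symm
      change algebraMap S S' (α s.1) * algebraMap Q.infinitesimal.Ring S' (IsLocalization.lift hu _) = _
      rw [← hφ, ← map_mul, ← hφ p]
      congr 1
      exact ((IsLocalization.lift_mk'_spec hu p _ s).1 rfl).symm }

end Groth.Agent.CotPres
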